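import Cfsg.Agent.H190.Exc.Defs

/-!
# Families of primes with cyclic centralisers in `A_n` : at most two members
-/

set_option autoImplicit false

namespace Cfsg.Agent.H511.Exc

open Cfsg.Agent.H190.Exc Equiv

/-- the prime divisors of `|A_n|` are at most `n` -/
theorem alt_le {n r : ℕ} (hr : r.Prime) (h : r ∣ Nat.card (alternatingGroup (Fin n))) : r ≤ n := by
  have h1 : r ∣ Nat.card (Equiv.Perm (Fin n)) := h.trans (Subgroup.card_subgroup_dvd_card _)
  rw [Nat.card_eq_fintype_card, Fintype.card_perm, Fintype.card_fin] at h1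
  exact (hr.dvd_factorial).1 h1

/-- a Klein four group outside an `r`-cycle -/
theorem alt_ge {n r : ℕ} (hr : r.Prime) (h11 : 11 ≤ r) (h : CC (alternatingGroup (Fin n)) r) (hn : r + 4 ≤ n) :
    False := by
  classical
  have hn1 : n = r + (4 + (n - r - 4)) := by omega
  let e : Fin n ≃ Fin r ⊕ (Fin 4 ⊕ Fin (n - r - 4)) :=
    ((finCongr hn1).trans finSumFinEquiv.symm).trans (Equiv.sumCongr (Equiv.refl _) finSumFinEquiv.symm)
  -- the homomorphisms
  let i1 : Equiv.Perm (Fin r) →* Equiv.Perm (Fin n) :=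
    (e.symm.permCongrHom.toMonoidHom).comp
      ((Equiv.Perm.sumCongrHom (Fin r) (Fin 4 ⊕ Fin (n - r - 4))).comp (MonoidHom.inl _ _))
  let i2 : Equiv.Perm (Fin 4) →* Equiv.Perm (Fin n) :=
    (e.symm.permCongrHom.toMonoidHom).comp
      ((Equiv.Perm.sumCongrHom (Fin r) (Fin 4 ⊕ Fin (n - r - 4))).comp
        ((MonoidHom.inr _ _).comp ((Equiv.Perm.sumCongrHom (Fin 4) (Fin (n - r - 4))).comp (MonoidHom.inl _ _))))
  have hi1 : Function.Injective i1 := by
    intro a b hab
    have h0 : e.symm.permCongrHom ((Equiv.Perm.sumCongrHom (Fin r) (Fin 4 ⊕ Fin (n - r - 4))) (a, 1)) =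
      e.symm.permCongrHom ((Equiv.Perm.sumCongrHom (Fin r) (Fin 4 ⊕ Fin (n - r - 4))) (b, 1)) := hab
    exact congrArg Prod.fst (Equiv.Perm.sumCongrHom_injective (e.symm.permCongrHom.injective h0))
  have hi2 : Function.Injective i2 := by
    intro a b hab
    have h0 : e.symm.permCongrHom ((Equiv.Perm.sumCongrHom (Fin r) (Fin 4 ⊕ Fin (n - r - 4)))
        (1, (Equiv.Perm.sumCongrHom (Fin 4) (Fin (n - r - 4))) (a, 1))) =
      e.symm.permCongrHom ((Equiv.Perm.sumCongrHom (Fin r) (Fin 4 ⊕ Fin (n - r - 4)))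
        (1, (Equiv.Perm.sumCongrHom (Fin 4) (Fin (n - r - 4))) (b, 1))) := hab
    have h1 : (Equiv.Perm.sumCongrHom (Fin 4) (Fin (n - r - 4))) (a, 1) =
      (Equiv.Perm.sumCongrHom (Fin 4) (Fin (n - r - 4))) (b, 1) :=
      congrArg Prod.snd (Equiv.Perm.sumCongrHom_injective (e.symm.permCongrHom.injective h0))
    exact congrArg Prod.fst (Equiv.Perm.sumCongrHom_injective h1)
  have hcomm : ∀ a b, Commute (i1 a) (i2 b) := by
    intro a b
    refine Commute.map ?_ (e.symm.permCongrHom.toMonoidHom)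
    refine Commute.map ?_ (Equiv.Perm.sumCongrHom (Fin r) (Fin 4 ⊕ Fin (n - r - 4)))
    exact Prod.ext (by simp) (by simp)
  have hs1 : ∀ a, Equiv.Perm.sign (i1 a) = Equiv.Perm.sign a := by
    intro a
    show Equiv.Perm.sign (e.symm.permCongr (Equiv.Perm.sumCongr a 1)) = _
    rw [Equiv.Perm.sign_permCongr, Equiv.Perm.sign_sumCongr]
    simp
  have hs2 : ∀ a, Equiv.Perm.sign (i2 a) = Equiv.Perm.sign a := by
    intro a
    show Equiv.Perm.sign (e.symm.permCongr (Equiv.Perm.sumCongr 1 (Equiv.Perm.sumCongr a 1))) = _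
    rw [Equiv.Perm.sign_permCongr, Equiv.Perm.sign_sumCongr, Equiv.Perm.sign_sumCongr]
    simp
  obtain ⟨k, rfl⟩ : ∃ k, r = k + 2 := ⟨r - 2, by omega⟩
  have hodd : Even (k + 1) := by
    rcases hr.eq_two_or_odd' with h2 | h2
    · omega
    · rcases h2 with ⟨l, hl⟩
      exact ⟨l, by omega⟩
  let x : alternatingGroup (Fin n) := ⟨i1 (finRotate (k + 2)), by
    rw [Equiv.Perm.mem_alternatingGroup, hs1, sign_finRotate]; exact hodd.neg_one_pow⟩
  let a0 : Equiv.Perm (Fin 4) := Equiv.swap 0 1 * Equiv.swap 2 3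
  let b0 : Equiv.Perm (Fin 4) := Equiv.swap 0 2 * Equiv.swap 1 3
  let a : alternatingGroup (Fin n) := ⟨i2 a0, by
    rw [Equiv.Perm.mem_alternatingGroup, hs2]; decide⟩
  let b : alternatingGroup (Fin n) := ⟨i2 b0, by
    rw [Equiv.Perm.mem_alternatingGroup, hs2]; decide⟩
  have hx : orderOf x = k + 2 := by
    rw [← Subgroup.orderOf_coe]
    show orderOf (i1 (finRotate (k + 2))) = k + 2
    rw [orderOf_injective i1 hi1, isCycle_finRotate.orderOf, support_finRotate, Finset.card_univ, Fintype.card_fin]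
  have ha : orderOf a = 2 := by
    rw [← Subgroup.orderOf_coe]
    show orderOf (i2 a0) = 2
    rw [orderOf_injective i2 hi2]
    exact orderOf_eq_prime (by decide) (by decide)
  have hb : orderOf b = 2 := by
    rw [← Subgroup.orderOf_coe]
    show orderOf (i2 b0) = 2
    rw [orderOf_injective i2 hi2]
    exact orderOf_eq_prime (by decide) (by decide)
  have hax : Commute a x := Subtype.ext (hcomm _ _).symm
  have hbx : Commute b x := Subtype.ext (hcomm _ _).symm
  have h1 := h.mem_zpowers hx hax hbx (by rw [ha, hb])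
  obtain ⟨l, hl⟩ := mem_powers_iff_mem_zpowers.2 h1
  have h2 : b0 ^ l = a0 := by
    apply hi2
    rw [map_pow]
    exact congrArg Subtype.val hl
  have h3 : b0 ^ 2 = 1 := by decide
  have h4 : b0 ^ (l % 2) = a0 := by
    rw [← h2]
    conv_rhs => rw [← Nat.mod_add_div l 2, pow_add, pow_mul, h3, one_pow, mul_one]
  rcases Nat.mod_two_eq_zero_or_one l with h5 | h5
  · rw [h5] at h4
    revert h4
    decide
  · rw [h5] at h4
    revert h4
    decide

/-- **`A_n` has at most two independent primes with cyclic centralisers** -/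
theorem alt_card {n : ℕ} {ρ : Finset ℕ} (h : Ind (alternatingGroup (Fin n)) ρ) : ρ.card ≤ 2 := by
  classical
  have h1 : ∀ r ∈ ρ, r ≤ n ∧ n < r + 4 ∧ r % 2 = 1 := by
    intro r hr
    refine ⟨alt_le (h.prime r hr) (h.dvd r hr), ?_, ?_⟩
    · by_contra h2
      exact alt_ge (h.prime r hr) (h.ge r hr) (h.cc r hr) (by omega)
    · have h2 := h.ge r hr
      exact (h.prime r hr).eq_two_or_odd.resolve_left (by omega)
  have hinj : Set.InjOn (fun r => (n - r) / 2) ρ := by
    intro r hr s hs hrs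
    have h2 := h1 r hr
    have h3 := h1 s hs
    have h4 : (n - r) / 2 = (n - s) / 2 := hrs
    omega
  have himg : ρ.image (fun r => (n - r) / 2) ⊆ {0, 1} := by
    intro y hy
    obtain ⟨r, hr, rfl⟩ := Finset.mem_image.1 hy
    have h2 := h1 r hr
    rw [Finset.mem_insert, Finset.mem_singleton]
    show (n - r) / 2 = 0 ∨ (n - r) / 2 = 1
    omega
  rw [← Finset.card_image_of_injOn hinj]
  exact (Finset.card_le_card himg).trans Finset.card_le_two

end Cfsg.Agent.H511.Exc
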